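import Cfsg.Agent.ZassAbelian.Final
import Cfsg.Agent.SylowToolkit.Faithful
import Cfsg.Agent.Dickson.PSL
import Mathlib

/-!
# Simple groups with `p + 1` Sylow subgroups of prime order `p`

They act on their Sylow `p`-subgroups as Zassenhaus groups, so are `PSL(2, p)` when `2 d = p - 1`.
-/

set_option autoImplicit false
set_option linter.style.haveILetI false

namespace CfsgLib.PSLSmall

open CfsgLib.SylowToolkit CfsgLib.ZassAbelian Subgroup MulAction
open scoped Pointwise

variable {G : Type*} [Group G] [Finite G] [IsSimpleGroup G] {p : ℕ} [hp : Fact p.Prime]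

theorem exists_setting (hc : ¬ IsMulCommutative G) (P : Sylow p G)
    (hP : Nat.card (P : Subgroup G) = p) (hn : Nat.card (Sylow p G) = p + 1) :
    ∃ D : Setting G (Sylow p G), Nat.card D.F = p := by
  classical
  have hp1 := hp.out.two_le
  have hd : p ∣ Nat.card G := hP ▸ card_subgroup_dvd_card _
  have hf : FaithfulSylow p G := toPermHom_sylow_injective hc hd
  have hcyc : IsCyclic (P : Subgroup G) := isCyclic_of_prime_card hP
  have hcomm : ∀ u ∈ (P : Subgroup G), ∀ v ∈ (P : Subgroup G), u * v = v * u := fun u hu v hv =>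
    congrArg Subtype.val (hcyc.commGroup.mul_comm ⟨u, hu⟩ ⟨v, hv⟩)
  have hPfix : ∀ u ∈ (P : Subgroup G), u • P = P := fun u hu =>
    Sylow.smul_eq_iff_mem_normalizer.mpr (le_normalizer hu)
  have hfree : ∀ u ∈ (P : Subgroup G), ∀ Q : Sylow p G, Q ≠ P → u • Q = Q → u = 1 := by
    intro u hu Q hQ huQ
    have huQ' := mem_of_smul_eq (IsPGroup.to_le P.isPGroup' (zpowers_le.mpr hu)) huQ
    by_contra hu1
    have e1 : zpowers u = (P : Subgroup G) := eq_of_le_of_card_ge (zpowers_le.mpr hu) (by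
      have h1 := card_dvd_of_le (zpowers_le.mpr hu)
      rw [hP, Nat.dvd_prime hp.out] at h1
      rw [hP]
      refine (h1.resolve_left fun e => hu1 ?_).ge
      rw [Nat.card_zpowers] at e
      exact orderOf_eq_one_iff.mp e)
    refine hQ (Sylow.ext (eq_of_le_of_card_ge (e1.symm.le.trans (zpowers_le.mpr huQ')) ?_).symm)
    rw [card_sylow_subgroup_congr Q P]
  have hreg : ∀ y z : Sylow p G, y ≠ P → z ≠ P → ∃ u ∈ (P : Subgroup G), u • y = z := by
    intro y z hy hz
    haveI := Fintype.ofFinite (Sylow p G)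
    let f : ↥(P : Subgroup G) → {Q : Sylow p G // Q ≠ P} := fun u =>
      ⟨(u : G) • y, fun e => hy (by
        have := congrArg ((u : G)⁻¹ • ·) e
        rwa [inv_smul_smul, hPfix _ (inv_mem u.2)] at this)⟩
    have hcard : Nat.card {Q : Sylow p G // Q ≠ P} = p := by
      rw [Nat.card_eq_fintype_card, Fintype.card_subtype_compl, Fintype.card_subtype_eq,
        ← Nat.card_eq_fintype_card, hn, Nat.add_sub_cancel]
    have hinj : Function.Injective f := fun u v e => by
      have e' : (u : G) • y = (v : G) • y := congrArg Subtype.val e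
      have h1 := hfree _ (mul_mem (inv_mem v.2) u.2) y hy (by rw [mul_smul, e', inv_smul_smul])
      exact Subtype.ext (inv_mul_eq_one.mp h1).symm
    obtain ⟨u, hu⟩ := ((Nat.bijective_iff_injective_and_card f).mpr ⟨hinj, by rw [hP, hcard]⟩).2 ⟨z, hz⟩
    exact ⟨u, u.2, congrArg Subtype.val hu⟩
  have hmove : ∀ a b : Sylow p G, a ≠ b → ∀ g : G, g • a = P → g • b ≠ P := fun a b hab g hga hgb =>
    hab (smul_left_cancel g (hga.trans hgb.symm))
  obtain ⟨o, ho⟩ : ∃ o : Sylow p G, o ≠ P := by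
    haveI : Nontrivial (Sylow p G) := Finite.one_lt_card_iff_nontrivial.mp (by omega)
    exact exists_ne P
  have h3 : ∃ c : Sylow p G, c ≠ P ∧ c ≠ o := by
    by_contra hcon
    push Not at hcon
    have hsub : (Set.univ : Set (Sylow p G)) ⊆ {P, o} := fun x _ => (em (x = P)).imp id (hcon x)
    have := Set.ncard_le_ncard hsub
    rw [Set.ncard_univ, Set.ncard_pair ho.symm, hn] at this
    omega
  refine ⟨⟨P, o, ho.symm, ?_, ?_, h3, (P : Subgroup G), hPfix, ?_, hcomm, hreg, hfree⟩, hP⟩
  · intro a b c d hab hcd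
    obtain ⟨g₁, hg₁⟩ := exists_smul_eq G a P
    obtain ⟨g₂, hg₂⟩ := exists_smul_eq G c P
    obtain ⟨u, hu, hu'⟩ := hreg (g₁ • b) (g₂ • d) (hmove a b hab g₁ hg₁) (hmove c d hcd g₂ hg₂)
    refine ⟨g₂⁻¹ * u * g₁, ?_, ?_⟩
    · rw [mul_smul, mul_smul, hg₁, hPfix u hu, inv_smul_eq_iff, hg₂]
    · rw [mul_smul, mul_smul, hu', inv_smul_eq_iff]
  · intro g a b c hab hbc hac ha hb hc'
    obtain ⟨x, hx⟩ := exists_smul_eq G a P
    have hfix : ∀ q : Sylow p G, g • q = q → (x * g * x⁻¹) • (x • q) = x • q := fun q hq => by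
      rw [mul_smul, inv_smul_smul, mul_smul, hq]
    set g' := x * g * x⁻¹ with hg'
    have hP' : g' • P = P := hx ▸ hfix a ha
    have hb' := hfix b hb
    have hc'' := hfix c hc'
    have hbP := hmove a b hab x hx
    have hcP := hmove a c hac x hx
    obtain ⟨u, hu, hu'⟩ := hreg _ _ hbP hcP
    have hgN : g' ∈ normalizer ((P : Subgroup G) : Set G) := Sylow.smul_eq_iff_mem_normalizer.mp hP'
    have hconj : g' * u * g'⁻¹ ∈ (P : Subgroup G) := (mem_normalizer_iff.mp hgN u).mp hu
    have hgu : g' * u * g'⁻¹ = u := by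
      have h1 := hfree _ (mul_mem (inv_mem hu) hconj) (x • b) hbP (by
        rw [mul_smul, mul_smul, mul_smul, inv_smul_eq_iff.mpr hb'.symm, hu', hc'', inv_smul_eq_iff, hu'])
      exact (inv_mul_eq_one.mp h1).symm
    have hu1 : u ≠ 1 := fun e => hbc (smul_left_cancel x (by rw [← hu', e, one_smul]))
    have hgen : zpowers u = (P : Subgroup G) := eq_of_le_of_card_ge (zpowers_le.mpr hu) (by
      have h1 := card_dvd_of_le (zpowers_le.mpr hu)
      rw [hP, Nat.dvd_prime hp.out] at h1
      rw [hP]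
      refine (h1.resolve_left fun e => hu1 ?_).ge
      rw [Nat.card_zpowers] at e
      exact orderOf_eq_one_iff.mp e)
    have hall : ∀ Q : Sylow p G, g' • Q = Q := by
      intro Q
      by_cases hQ : Q = P
      · rw [hQ, hP']
      obtain ⟨v, hv, hv'⟩ := hreg _ Q hbP hQ
      obtain ⟨k, rfl⟩ := mem_zpowers_iff.mp (hgen.symm ▸ hv)
      have hcu : Commute g' u := mul_inv_eq_iff_eq_mul.mp hgu
      rw [← hv', ← mul_smul, (hcu.zpow_right k).eq, mul_smul, hb']
    have h1 : g' = 1 := hf.eq_one hall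
    exact conj_eq_one_iff.mp h1
  · intro g hg u hu
    exact (mem_normalizer_iff.mp (Sylow.smul_eq_iff_mem_normalizer.mp hg) u).mp hu

/-- A simple group of order `(p + 1) p (p - 1) / 2` with `p + 1` Sylow `p`-subgroups is `PSL(2, p)`. -/
theorem mulEquiv_psl {d : ℕ} (hd : 2 * d + 1 = p) (hcard : Nat.card G = (p + 1) * (p * d))
    (hn : Nat.card (Sylow p G) = p + 1) {F : Type*} [Field F] [Fintype F] (hF : Fintype.card F = p) :
    Nonempty (G ≃* Matrix.ProjectiveSpecialLinearGroup (Fin 2) F) := by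
  have hp1 := hp.out.two_le
  have hd0 : 0 < d := by omega
  have hnp : ¬ p ∣ (p + 1) * d := fun hdvd => by
    rcases hp.out.dvd_mul.mp hdvd with h | h
    · have := (Nat.dvd_add_right dvd_rfl).mp h
      exact hp.out.one_lt.ne' (Nat.dvd_one.mp this)
    · have := Nat.le_of_dvd hd0 h; omega
  have hc : ¬ IsMulCommutative G := not_isMulCommutative_of_not_prime (by
    rw [hcard]
    exact Nat.not_prime_mul (by omega) (by
      intro e
      have := Nat.eq_one_of_mul_eq_one_right e
      omega))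
  obtain ⟨P⟩ := (inferInstance : Nonempty (Sylow p G))
  have hP : Nat.card (P : Subgroup G) = p := by
    rw [card_sylow_subgroup_eq (k := 1) (m := (p + 1) * d) (by rw [hcard]; ring) hnp P, pow_one]
  obtain ⟨D, hD⟩ := exists_setting hc P hP hn
  have hH : Nat.card D.H = d := by
    have h1 := D.card_G
    rw [hD, hcard] at h1
    exact (Nat.eq_of_mul_eq_mul_left hp.out.pos (Nat.eq_of_mul_eq_mul_left (Nat.succ_pos p) h1)).symm
  rcases classify D with h | ⟨h, hinv⟩ | ⟨M, hM, htrans, hfree⟩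
  · omega
  · obtain ⟨K, iK, iT, hK, -, ⟨e⟩⟩ := psl_of_inverted D h hinv
    obtain ⟨e'⟩ := CfsgLib.Dickson.psl_congr (FiniteField.ringEquivOfCardEq (K := K) (K' := F) (by rw [hK, hD, hF]))
    exact ⟨e.trans e'⟩
  · exfalso
    rcases hM.eq_bot_or_eq_top with rfl | rfl
    · obtain ⟨m, hm, he⟩ := htrans D.i D.o
      rw [mem_bot.mp hm, one_smul] at he
      exact D.io he
    · have hPb : (P : Subgroup G) ≠ ⊥ := fun e => by rw [e, card_bot] at hP; omega
      obtain ⟨u, hu, hu1⟩ := (Subgroup.bot_or_exists_ne_one _).resolve_left hPb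
      exact hu1 (hfree u (mem_top u) P (Sylow.smul_eq_iff_mem_normalizer.mpr (le_normalizer hu)))

end CfsgLib.PSLSmall
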