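import Cfsg.Agent.PSLSmall.Five04
import Cfsg.Agent.M11Order.Sylow
import Cfsg.Agent.M11Order.Base
import Cfsg.Agent.Sieve.Order1092
import Cfsg.Agent.Blocks.AbelianFrobenius.IndexThreeInvolution
import Mathlib

/-!
# Simple groups of order 4080
-/

set_option autoImplicit false
set_option linter.style.haveILetI false

namespace CfsgLib.PSLSmall

open Cfsg CfsgLib.Chars CfsgLib.SylowToolkit CfsgLib.Sieve.PrimeLocal Subgroup MulAction
open scoped ComplexConjugate

/-- The arithmetic of the involution centralizer. -/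
theorem key_4080 : ((List.range 33).all fun i => (List.range 2041).all fun c =>
    !(decide (c % 2 = 0) && decide (4080 % c = 0) && decide (((((i : ℤ) - 16) - 16) * (((i : ℤ) - 16) - 16)) % (c : ℤ) = 0) &&
      decide (1 + ((i : ℤ) - 16) * ((i : ℤ) - 16) + 8 * ((((i : ℤ) - 16) - 1) * (((i : ℤ) - 16) - 1)) ≤ (c : ℤ))) ||
    decide (c = 16)) = true := by decide +kernel

set_option synthInstance.maxSize 100000 in
set_option synthInstance.maxHeartbeats 1000000 in
/-- The degrees in the principal 17-block. -/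
theorem key_degrees_4080 : ∀ a < 64, ∀ b < 23, b % 17 ≠ 0 → 4080 % a = 0 → 4080 % b = 0 → 2 ≤ a → (a % 17 = 1 ∨ a % 17 = 16) →
    (b + 1 = a ∨ a + 1 = b) → 1 + a ^ 2 + 8 * b ^ 2 ≤ 4080 → a = 16 ∧ b = 15 := by decide +kernel

variable {G : Type*} [Group G] [Finite G] [IsSimpleGroup G] (h : Nat.card G = 4080)

include h

theorem not_comm_4080 : ¬ IsMulCommutative G := not_isMulCommutative_of_not_prime (by rw [h]; norm_num)

theorem centralizer_involution_4080 {t : G} (ht : orderOf t = 2) :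
    Nat.card (centralizer ({t} : Set G)) = 16 := by
  classical
  haveI := Fintype.ofFinite G
  haveI h17 : Fact (Nat.Prime 17) := ⟨by norm_num⟩
  have hc := not_comm_4080 h
  obtain ⟨o, ho, L⟩ := exists_option hc (by rw [h]; norm_num) 17 240 (by rw [h]) (by norm_num)
  obtain ⟨hn, hc1⟩ := (show ∀ o ∈ options 17 240, o.1 = 120 ∧ o.2.2 = 1 by decide +kernel) o ho
  rw [hn, hc1] at L
  obtain ⟨P⟩ := (inferInstance : Nonempty (Sylow 17 G))
  obtain ⟨hP, hCP⟩ := L.2 P
  obtain ⟨u, hu, hz, hidx⟩ := CfsgLib.Blocks.OrderP.exists_generator_sylow P hP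
  have hCu : Nat.card (centralizer ({u} : Set G)) = 17 := by
    rw [← CfsgLib.M11Order.centralizer_zpowers, hz, hCP]
  have he : (centralizer (zpowers u : Set G)).relIndex (normalizer (zpowers u : Set G)) = 2 := by
    rw [hz]
    have h1 := CfsgLib.PrimeGram.relIndex_mul_centralizer (P : Subgroup G)
    have h2 := card_normalizer_mul P
    rw [L.1, h] at h2
    rw [hCP] at h1
    omega
  obtain ⟨M, hM⟩ := CfsgLib.Blocks.exists_isPModular 17 (by norm_num)
  haveI := CfsgLib.Blocks.isMaximal_of_isPModular hM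
  obtain ⟨X, Y, hd, hB, hX, hY, εX, ε, hε, hXp, hYp, hrel⟩ :=
    CfsgLib.Blocks.OrderP.principal_block_structure hM hu hidx he
  have hout : ∀ χ, χ ∉ X → χ ∉ Y → (χ : G → ℂ) u = 0 := fun χ h1 h2 =>
    (CfsgLib.M11Order.outside_block hM hu hidx hCu fun hm => ((hB χ).mp hm).elim h1 h2).2
  have h1deg : charDegree (oneChar G : G → ℂ) = 1 := charDegree_eq_of_map_one (by rw [oneChar_apply, Nat.cast_one])
  have hone : oneChar G ∈ X := by
    refine ((hB _).mp CfsgLib.Blocks.oneChar_mem_principalBlock).resolve_right fun hmemY => ?_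
    have h1 := hYp _ hmemY
    rw [h1deg] at h1
    rcases hε with rfl | rfl <;> exact absurd h1 (by decide)
  have hε1 : εX (oneChar G) = 1 := by
    obtain ⟨hs, hcong, -⟩ := hXp _ hone
    rw [h1deg] at hcong
    rcases hs with e | e
    · exact e
    · rw [e] at hcong; exact absurd hcong (by decide)
  obtain ⟨χ, hXeq⟩ : ∃ χ, X.erase (oneChar G) = {χ} :=
    Finset.card_eq_one.mp (by rw [Finset.card_erase_of_mem hone, hX])
  have hχ : χ ∈ X.erase (oneChar G) := hXeq ▸ Finset.mem_singleton_self χ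
  obtain ⟨hχ1, hχX⟩ := Finset.mem_erase.mp hχ
  have hXu : ∀ ψ ∈ X, (ψ : G → ℂ) u = (εX ψ : ℂ) := fun ψ hψ => by
    simpa using (hXp ψ hψ).2.2 u (mem_zpowers u) (fun e => by rw [e, orderOf_one] at hu; norm_num at hu)
      1 (Commute.one_left _) (by simp)
  obtain ⟨θ₀, hθ₀⟩ := Finset.card_pos.mp (show 0 < Y.card by rw [hY]; norm_num)
  have hsame : ∀ θ ∈ Y, ∀ g : G, ¬ 17 ∣ orderOf g → (ε : ℂ) * (θ : G → ℂ) g = 1 + (εX χ : ℂ) * (χ : G → ℂ) g := by
    intro θ hθ g hg
    rw [hrel θ hθ g hg, ← Finset.add_sum_erase _ _ hone, hXeq, Finset.sum_singleton, hε1, oneChar_apply]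
    push_cast; ring
  set A := charDegree (χ : G → ℂ) with hA
  set B := charDegree (θ₀ : G → ℂ) with hB'
  have hBall : ∀ θ ∈ Y, charDegree (θ : G → ℂ) = B := fun θ hθ => charDegree_eq_of_map_one (by
    have h1 := hsame θ hθ 1 (by simp)
    rw [← hsame θ₀ hθ₀ 1 (by simp)] at h1
    rw [mul_left_cancel₀ (by rcases hε with rfl | rfl <;> norm_num) h1, hB', coe_charDegree])
  have heq : ε * (B : ℤ) = 1 + εX χ * (A : ℤ) := by
    have h1 := hsame θ₀ hθ₀ 1 (by simp)
    rw [← coe_charDegree, ← coe_charDegree, ← hA, ← hB'] at h1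
    exact_mod_cast h1
  have hsq : 1 + A ^ 2 + 8 * B ^ 2 ≤ 4080 := by
    have hsub := (Finset.sum_le_sum_of_subset (f := fun ψ : IrrCharacter G => charDegree (ψ : G → ℂ) ^ 2)
      (Finset.subset_univ (X ∪ Y))).trans_eq (sum_charDegree_sq (G := G))
    rw [Finset.sum_union hd, ← Finset.add_sum_erase _ _ hone, hXeq, Finset.sum_singleton,
      Finset.sum_congr rfl (s₁ := Y) fun θ hθ => show charDegree (θ : G → ℂ) ^ 2 = B ^ 2 by rw [hBall θ hθ],
      Finset.sum_const, hY, smul_eq_mul, h1deg, h] at hsub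
    norm_num at hsub
    omega
  have hA2 : 2 ≤ A := CfsgLib.M11Order.one_lt_charDegree hc hχ1
  obtain ⟨hA16, hεχ, hB15, hεe⟩ : A = 16 ∧ εX χ = -1 ∧ B = 15 ∧ ε = -1 := by
    obtain ⟨hs, hcong, -⟩ := hXp χ hχX
    have hAd : A ∣ 4080 := h ▸ charDegree_dvd_card χ
    have hA64 : A < 64 := by
      by_contra hge
      have h1 := Nat.pow_le_pow_left (not_lt.mp hge) 2
      omega
    have hB23 : B < 23 := by
      by_contra hge
      have h1 := Nat.pow_le_pow_left (not_lt.mp hge) 2
      omega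
    have hBd : B ∣ 4080 := h ▸ charDegree_dvd_card θ₀
    have hB0 : B ≠ 0 := (charDegree_pos θ₀).ne'
    rw [← hA] at hcong
    unfold Int.ModEq at hcong
    have hBm : B % 17 ≠ 0 := by
      have h1 := hYp θ₀ hθ₀
      rw [← hB'] at h1
      unfold Int.ModEq at h1
      rcases hε with e | e <;> rw [e] at h1 <;> omega
    obtain ⟨e1, e2⟩ := key_degrees_4080 A hA64 B hB23 hBm (Nat.mod_eq_zero_of_dvd hAd) (Nat.mod_eq_zero_of_dvd hBd) hA2
      (by rcases hs with e | e <;> rw [e] at hcong <;> omega)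
      (by rcases hs with e | e <;> rcases hε with e' | e' <;> rw [e, e'] at heq <;> omega) hsq
    rw [e1] at hcong
    refine ⟨e1, ?_, e2, ?_⟩
    · rcases hs with e | e
      · rw [e] at hcong; norm_num at hcong
      · exact e
    · rw [e1, e2] at heq
      rcases hs with e | e <;> rw [e] at heq <;> omega
  -- splitting sums over the block
  have hsplit : ∀ F : IrrCharacter G → ℂ, (∀ ψ, ψ ∉ X → ψ ∉ Y → F ψ = 0) →
      ∑ ψ, F ψ = F (oneChar G) + F χ + ∑ θ ∈ Y, F θ := by
    intro F hF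
    rw [← Finset.sum_subset (Finset.subset_univ (X ∪ Y)) fun ψ _ hψ => ?_]
    · rw [Finset.sum_union hd, ← Finset.add_sum_erase _ _ hone, hXeq, Finset.sum_singleton]
    · simp only [Finset.mem_union, not_or] at hψ; exact hF ψ hψ.1 hψ.2
  have hθu : ∑ θ ∈ Y, (θ : G → ℂ) u = 1 := by
    have h1 := sum_irr_map_one_mul u
    rw [if_neg (fun e => by rw [e, orderOf_one] at hu; norm_num at hu),
      hsplit _ (fun ψ h1 h2 => by rw [hout ψ h1 h2, mul_zero]), Finset.sum_congr rfl (s₁ := Y)
        (fun θ hθ => by rw [← coe_charDegree, hBall θ hθ, hB15]), ← Finset.mul_sum, ← coe_charDegree, ← coe_charDegree,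
      h1deg, ← hA, hA16, oneChar_apply, hXu χ hχX, hεχ] at h1
    push_cast at h1
    linear_combination h1 / 15
  -- values at `t`
  obtain ⟨a, ha⟩ := CfsgLib.Blocks.AbelianFrobenius.exists_int_apply_two χ ht
  have hθt : ∀ θ ∈ Y, (θ : G → ℂ) t = ((a - 1 : ℤ) : ℂ) := fun θ hθ => by
    have h1 := hsame θ hθ t (by rw [ht]; norm_num)
    rw [hεχ, hεe, ha] at h1
    push_cast at h1 ⊢
    linear_combination -h1
  have htt : t⁻¹ = t := inv_eq_of_mul_eq_one_right (by rw [← pow_two, ← ht, pow_orderOf_eq_one])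
  -- the class multiplication coefficient
  set N := Nat.card {b : G // IsConj (t * (b * t * b⁻¹)) u}
  have hN : (N : ℤ) = (a - 16) * (a - 16) := by
    have h1 := CfsgLib.M11Order.sum_triple t t u
    rw [hCu, h, hsplit _ (fun ψ h1 h2 => by rw [hout ψ h1 h2, map_zero, mul_zero, zero_div]),
      Finset.sum_congr rfl (s₁ := Y) (g := fun θ : IrrCharacter G => ((a - 1 : ℤ) : ℂ) * ((a - 1 : ℤ) : ℂ) / 15 * conj ((θ : G → ℂ) u))
        (fun θ hθ => by rw [hθt θ hθ, ← coe_charDegree, hBall θ hθ, hB15]; push_cast; ring),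
      ← Finset.mul_sum, ← map_sum, hθu, map_one, mul_one, ← coe_charDegree, ← coe_charDegree,
      h1deg, ← hA, hA16, oneChar_apply, oneChar_apply, ha, hXu χ hχX, hεχ] at h1
    simp only [map_one, Int.cast_neg, Int.cast_one, map_neg] at h1
    have h2 : ((17 * (N : ℤ) : ℤ) : ℂ) = ((17 * ((a - 16) * (a - 16)) : ℤ) : ℂ) := by
      push_cast at h1 ⊢
      linear_combination -h1
    have h3 : 17 * (N : ℤ) = 17 * ((a - 16) * (a - 16)) := by exact_mod_cast h2
    omega
  set C := centralizer ({t} : Set G) with hC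
  have hCN : Nat.card C ∣ N := by
    let act : MulAction C {b : G // IsConj (t * (b * t * b⁻¹)) u} :=
      { smul := fun c b => ⟨(c : G) * b.1, by
          have hct : (c : G) * t = t * c := mem_centralizer_singleton_iff.mp c.2
          refine IsConj.trans ?_ b.2
          refine isConj_iff.mpr ⟨(c : G)⁻¹, ?_⟩
          calc (c : G)⁻¹ * (t * ((c : G) * b.1 * t * ((c : G) * b.1)⁻¹)) * (c : G)⁻¹⁻¹
              = (c : G)⁻¹ * (t * c) * (b.1 * t * b.1⁻¹) := by group
            _ = t * (b.1 * t * b.1⁻¹) := by rw [← hct]; group⟩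
        one_smul := fun b => Subtype.ext (one_mul b.1)
        mul_smul := fun c d b => Subtype.ext (mul_assoc (c : G) d b.1) }
    letI := act
    have hfree : ∀ b : {b : G // IsConj (t * (b * t * b⁻¹)) u}, stabilizer C b = ⊥ := by
      intro b
      refine (eq_bot_iff_forall _).mpr fun c hc' => Subtype.ext ?_
      have e : (c : G) * b.1 = b.1 := congrArg Subtype.val hc'
      exact mul_eq_right.mp e
    refine ⟨Nat.card (Quotient (orbitRel C {b : G // IsConj (t * (b * t * b⁻¹)) u})), ?_⟩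
    show Nat.card {b : G // IsConj (t * (b * t * b⁻¹)) u} = _
    rw [Nat.card_congr (selfEquivSigmaOrbits C {b : G // IsConj (t * (b * t * b⁻¹)) u})]
    haveI := Fintype.ofFinite (Quotient (orbitRel C {b : G // IsConj (t * (b * t * b⁻¹)) u}))
    rw [Nat.card_sigma, Finset.sum_congr rfl (g := fun _ => Nat.card C), Finset.sum_const, Finset.card_univ,
      smul_eq_mul, ← Nat.card_eq_fintype_card, mul_comm]
    intro q _
    rw [Nat.card_congr (orbitEquivQuotientStabilizer C q.out), hfree, ← Subgroup.index, index_bot]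
  -- the second orthogonality relation
  have hcol : 1 + a * a + 8 * ((a - 1) * (a - 1)) ≤ (Nat.card C : ℤ) := by
    have h1 := sum_irr_mul_conj t t
    rw [if_pos (IsConj.refl t)] at h1
    have h2 : ∑ ψ : IrrCharacter G, Complex.normSq ((ψ : G → ℂ) t) = (Nat.card C : ℝ) := by
      apply Complex.ofReal_injective
      rw [Complex.ofReal_sum, Complex.ofReal_natCast, hC, ← h1]
      exact Finset.sum_congr rfl fun ψ _ => (Complex.mul_conj _).symm
    have h3 := Finset.sum_le_sum_of_subset_of_nonneg (f := fun ψ : IrrCharacter G => Complex.normSq ((ψ : G → ℂ) t))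
      (Finset.subset_univ (X ∪ Y)) (fun ψ _ _ => Complex.normSq_nonneg _)
    rw [h2, Finset.sum_union hd, ← Finset.add_sum_erase _ _ hone, hXeq, Finset.sum_singleton,
      Finset.sum_congr rfl (s₁ := Y) (g := fun _ => (((a - 1) * (a - 1) : ℤ) : ℝ)) (fun θ hθ => by
        rw [hθt θ hθ, Complex.normSq_intCast]; push_cast; ring),
      Finset.sum_const, hY, nsmul_eq_mul, oneChar_apply, ha, map_one, Complex.normSq_intCast] at h3
    have h4 : ((1 + a * a + 8 * ((a - 1) * (a - 1)) : ℤ) : ℝ) ≤ ((Nat.card C : ℤ) : ℝ) := by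
      push_cast at h3 ⊢
      norm_num [-Nat.card_eq_fintype_card] at h3 ⊢
      try rw [← Nat.card_eq_fintype_card] at h3
      linarith
    exact_mod_cast h4
  have hne : C ≠ ⊤ := by
    intro e
    have hZ : t ∈ center G := by
      rw [mem_center_iff]
      intro g
      exact (mem_centralizer_singleton_iff.mp (e ▸ mem_top g : g ∈ C))
    rcases IsSimpleGroup.eq_bot_or_eq_top_of_normal (center G) inferInstance with hb | hb
    · rw [hb, mem_bot] at hZ
      rw [hZ, orderOf_one] at ht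
      norm_num at ht
    · exact hc ⟨⟨fun x y => (mem_center_iff.mp (hb ▸ mem_top y : y ∈ center G) x)⟩⟩
  have hCd : Nat.card C ∣ 4080 := h ▸ card_subgroup_dvd_card C
  have hC2040 : Nat.card C ≤ 2040 := by
    have h1 := C.card_mul_index
    have h2 : 2 ≤ C.index := by
      have := C.index_ne_zero_of_finite
      have : C.index ≠ 1 := fun e => hne (index_eq_one.mp e)
      omega
    rw [h] at h1
    nlinarith
  have hC2 : Nat.card C % 2 = 0 := Nat.mod_eq_zero_of_dvd (by
    rw [← ht]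
    exact Subgroup.orderOf_dvd_natCard (s := C) (mem_centralizer_singleton_iff.mpr rfl))
  have ha16 : -16 ≤ a ∧ a ≤ 16 := by
    constructor <;> nlinarith
  obtain ⟨i, hi, hia⟩ : ∃ i : ℕ, i < 33 ∧ (i : ℤ) - 16 = a := ⟨(a + 16).toNat, by omega, by omega⟩
  have hk := List.all_eq_true.mp (List.all_eq_true.mp key_4080 i (List.mem_range.mpr hi)) (Nat.card C)
    (List.mem_range.mpr (by omega))
  simp only [Bool.or_eq_true, Bool.not_eq_true', Bool.and_eq_false_iff, decide_eq_false_iff_not,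
    decide_eq_true_eq, hia] at hk
  rcases hk with ((hk | hk) | hk) | hk
  · rcases hk with hk | hk
    · exact absurd hC2 hk
    · exact absurd (Nat.mod_eq_zero_of_dvd hCd) hk
  · refine absurd (Int.emod_eq_zero_of_dvd ?_) hk
    rw [← hN]
    exact_mod_cast hCN
  · exact absurd hcol hk
  · exact hk

theorem hyp_4080 (T : Sylow 2 G) : CfsgLib.StronglyEmbedded.AbelianCentralizer.Hyp T := by
  classical
  haveI : Fact (Nat.Prime 17) := ⟨by norm_num⟩
  haveI : Fact (Nat.Prime 5) := ⟨by norm_num⟩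
  haveI : Fact (Nat.Prime 3) := ⟨Nat.prime_three⟩
  haveI : Fact (Nat.Prime 2) := ⟨Nat.prime_two⟩
  have hc := not_comm_4080 h
  have hT16 : Nat.card (T : Subgroup G) = 16 := by
    simpa using card_sylow_subgroup_eq (k := 4) (m := 255) (by rw [h]; norm_num) (by norm_num) T
  -- odd centralizers
  have hodd : ∀ (p n c : ℕ) [Fact p.Prime], p ≠ 2 → HasLocal G p n c → ¬ 2 ∣ c := by
    intro p n c _ hp2 L h2
    obtain ⟨P⟩ := (inferInstance : Nonempty (Sylow p G))
    obtain ⟨⟨w, hwC⟩, hw⟩ := exists_prime_orderOf_dvd_card' (G := centralizer ((P : Subgroup G) : Set G)) 2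
      (by rw [(L.2 P).2]; exact h2.trans (dvd_mul_left _ _))
    rw [orderOf_mk] at hw
    have hle : (P : Subgroup G) ≤ centralizer ({w} : Set G) := fun x hx =>
      mem_centralizer_singleton_iff.mpr (mem_centralizer_iff.mp hwC x hx)
    have := card_dvd_of_le hle
    rw [(L.2 P).1, centralizer_involution_4080 h hw] at this
    exact hp2 ((Nat.prime_dvd_prime_iff_eq Fact.out Nat.prime_two).mp
      ((Fact.out : p.Prime).dvd_of_dvd_pow (show p ∣ 2 ^ 4 by norm_num; exact this)))
  obtain ⟨o17, ho17, L17⟩ := exists_option hc (by rw [h]; norm_num) 17 240 (by rw [h]) (by norm_num)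
  obtain ⟨o5, ho5, L5⟩ := exists_option hc (by rw [h]; norm_num) 5 816 (by rw [h]) (by norm_num)
  obtain ⟨o3, ho3, L3⟩ := exists_option hc (by rw [h]; norm_num) 3 1360 (by rw [h]) (by norm_num)
  obtain ⟨e17, c17⟩ := (show ∀ o ∈ options 17 240, o.1 = 120 ∧ o.2.2 = 1 by decide +kernel) o17 ho17
  obtain ⟨e5, c5⟩ := (show ∀ o ∈ options 5 816, ¬ 2 ∣ o.2.2 → o.1 = 136 ∧ o.2.2 = 3 by decide +kernel) o5 ho5
    (hodd 5 _ _ (by norm_num) L5)
  obtain ⟨e3, c3⟩ := (show ∀ o ∈ options 3 1360, ¬ 2 ∣ o.2.2 → 5 ∣ o.2.2 → ¬ 17 ∣ o.2.2 → o.1 = 136 ∧ o.2.2 = 5 by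
      decide +kernel) o3 ho3
    (hodd 3 _ _ (by norm_num) L3) (dvd_of_dvd L5 L3 (by norm_num) (by rw [c5]))
    (fun e => by
      have := dvd_of_dvd L3 L17 (by norm_num) e
      rw [c17] at this
      norm_num at this)
  rw [e17, c17] at L17
  rw [e5, c5] at L5
  rw [e3, c3] at L3
  -- counting
  let A2 : Set G := {g | g ≠ 1 ∧ g ^ 16 = 1}
  have hA2 : A2.ncard ≤ 255 := by
    have s17 := CfsgLib.Sieve.Order1092.le_card_dvd_orderOf L17 (by norm_num)
    have s5 := CfsgLib.Sieve.Order1092.le_card_dvd_orderOf L5 (by norm_num)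
    have s3 : Nat.card {g : G // orderOf g = 3} = 136 * 2 := by
      rw [card_orderOf_eq L3 (m := 1360) (by rw [h]) (by norm_num)]
    have d1 := CfsgLib.Sieve.Order1092.card_add_card_le_of_disjoint (G := G) (fun g => 5 ∣ orderOf g) (fun g => 17 ∣ orderOf g)
      fun g hg => CfsgLib.Sieve.Order1092.no_common_multiple (n' := 0) (c' := 0) L5 (by norm_num) (by norm_num) g hg
    have d2 := CfsgLib.Sieve.Order1092.card_add_card_le_of_disjoint (G := G) (fun g => orderOf g = 3)
      (fun g => 5 ∣ orderOf g ∨ 17 ∣ orderOf g) fun g hg => by rw [hg]; norm_num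
    have d3 := CfsgLib.Sieve.Order1092.card_add_card_le_of_disjoint (G := G) (fun g => g ∈ A2)
      (fun g => orderOf g = 3 ∨ 5 ∣ orderOf g ∨ 17 ∣ orderOf g) fun g hg hor => by
        have h16 : orderOf g ∣ 16 := orderOf_dvd_of_pow_eq_one hg.2
        rcases hor with e | e | e
        · rw [e] at h16; norm_num at h16
        · exact absurd (e.trans h16) (by norm_num)
        · exact absurd (e.trans h16) (by norm_num)
    have d4 := CfsgLib.Sieve.Order1092.card_add_card_le_of_disjoint (G := G) (fun g => g = 1)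
      (fun g => g ∈ A2 ∨ orderOf g = 3 ∨ 5 ∣ orderOf g ∨ 17 ∣ orderOf g) fun g hg hor => by
        subst hg
        simp only [orderOf_one] at hor
        rcases hor with e | e | e | e
        · exact e.1 rfl
        · norm_num at e
        · norm_num at e
        · norm_num at e
    have d5 : Nat.card {g : G // g = 1 ∨ g ∈ A2 ∨ orderOf g = 3 ∨ 5 ∣ orderOf g ∨ 17 ∣ orderOf g} ≤ Nat.card G :=
      Nat.card_le_card_of_injective Subtype.val Subtype.val_injective
    have hone : Nat.card {g : G // g = 1} = 1 := Nat.card_unique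
    have hA : Nat.card {g : G // g ∈ A2} = A2.ncard := Nat.card_coe_set_eq A2
    rw [h] at d5
    norm_num at s17 s5
    omega
  -- one class
  obtain ⟨z, hz⟩ := exists_prime_orderOf_dvd_card' (G := G) 2 (by rw [h]; norm_num)
  let K : Set G := {g | IsConj z g}
  have hK : K.ncard = 255 := by
    have h1 := (centralizer ({z} : Set G)).card_mul_index
    rw [centralizer_involution_4080 h hz, h] at h1
    have h2 : (stabilizer (ConjAct G) z).index = (centralizer ({z} : Set G)).index := by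
      rw [ConjAct.stabilizer_eq_centralizer]
      rfl
    rw [index_stabilizer, ConjAct.orbit_eq_carrier_conjClasses] at h2
    have h3 : (ConjClasses.mk z).carrier = K := by
      ext g
      rw [ConjClasses.mem_carrier_iff_mk_eq, ConjClasses.mk_eq_mk_iff_isConj]
      exact isConj_comm
    rw [h3] at h2
    omega
  have hK2 : K = A2 := by
    refine Set.eq_of_subset_of_ncard_le ?_ (by omega)
    rintro g hg
    obtain ⟨c, rfl⟩ := isConj_iff.mp hg
    refine ⟨fun e => ?_, ?_⟩
    · rw [conj_eq_one_iff] at e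
      rw [e, orderOf_one] at hz
      norm_num at hz
    · rw [conj_pow, show z ^ 16 = 1 from orderOf_dvd_iff_pow_eq_one.mp (by rw [hz]; norm_num), mul_one, mul_inv_cancel]
  have hsq : ∀ g : G, g ^ 16 = 1 → g ^ 2 = 1 := fun g hg => by
    by_cases h1 : g = 1
    · rw [h1, one_pow]
    obtain ⟨c, rfl⟩ := isConj_iff.mp (show g ∈ K from hK2 ▸ ⟨h1, hg⟩)
    rw [conj_pow, ← hz, pow_orderOf_eq_one, mul_one, mul_inv_cancel]
  refine ⟨fun hcyc => ?_, fun hn => ?_, fun t ht => ?_⟩
  · obtain ⟨g, hg⟩ := hcyc.exists_ofOrder_eq_natCard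
    rw [← orderOf_coe, hT16] at hg
    have := orderOf_dvd_of_pow_eq_one (hsq (g : G) (orderOf_dvd_iff_pow_eq_one.mp (by rw [hg])))
    rw [hg] at this
    norm_num at this
  · rcases IsSimpleGroup.eq_bot_or_eq_top_of_normal (T : Subgroup G) hn with e | e
    · rw [e, card_bot] at hT16; omega
    · rw [e, card_top, h] at hT16; omega
  · have hC : ∀ c ∈ centralizer ({t} : Set G), c ^ 2 = 1 := by
      intro c hcc
      refine hsq c (orderOf_dvd_iff_pow_eq_one.mp ?_)
      exact centralizer_involution_4080 h ht ▸ Subgroup.orderOf_dvd_natCard _ hcc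
    refine ⟨⟨⟨fun a b => Subtype.ext ?_⟩⟩, hC⟩
    have ha := hC _ a.2
    have hb := hC _ b.2
    have hab := hC _ (mul_mem a.2 b.2)
    rw [sq] at ha hb hab
    show (a : G) * b = b * a
    rw [← inv_eq_of_mul_eq_one_right hab, mul_inv_rev, inv_eq_of_mul_eq_one_right ha, inv_eq_of_mul_eq_one_right hb]

theorem mulEquiv_psl_4080 {F : Type*} [Field F] [Fintype F] (hF : Fintype.card F = 16) :
    Nonempty (G ≃* Matrix.ProjectiveSpecialLinearGroup (Fin 2) F) := by
  haveI : Fact (Nat.Prime 2) := ⟨Nat.prime_two⟩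
  obtain ⟨T⟩ := (inferInstance : Nonempty (Sylow 2 G))
  obtain ⟨K, iK, iK', -, hK, ⟨e⟩⟩ := CfsgLib.CAGroups.nonempty_mulEquiv_psl (hyp_4080 h T)
  have hT16 : Nat.card (T : Subgroup G) = 16 := by
    simpa using card_sylow_subgroup_eq (k := 4) (m := 255) (by rw [h]; norm_num) (by norm_num) T
  obtain ⟨e'⟩ := CfsgLib.Dickson.psl_congr (FiniteField.ringEquivOfCardEq (K := K) (K' := F) (by rw [hK, hF]; exact hT16))
  exact ⟨e.trans e'⟩

end CfsgLib.PSLSmall
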