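import Cfsg.Agent.PSLSmall.Setting
import Cfsg.Agent.CAGroups.Recognition
import Cfsg.Agent.SylowToolkit.Transfer
import Cfsg.Agent.SylowToolkit.PermRep
import Mathlib

/-!
# Simple groups of order 504
-/

set_option autoImplicit false
set_option linter.style.haveILetI false

namespace CfsgLib.PSLSmall

open CfsgLib.SylowToolkit Subgroup MulAction
open scoped Pointwise

section transfer

variable {G : Type*} [Group G] [Finite G] [IsSimpleGroup G] {p : ℕ} [Fact p.Prime]

open scoped IsMulCommutative in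
/-- In a simple group the centre of `N(P)` meets an abelian Sylow subgroup `P` trivially. -/
theorem eq_one_of_central_normalizer (hc : ¬ IsMulCommutative G) (P : Sylow p G)
    [IsMulCommutative (P : Subgroup G)] {x : G} (hx : x ∈ (P : Subgroup G))
    (hcen : ∀ n ∈ normalizer ((P : Subgroup G) : Set G), n * x = x * n) : x = 1 := by
  let V : G →* (P : Subgroup G) := MonoidHom.transfer (MonoidHom.id (P : Subgroup G))
  have htriv : ∀ g, V g = 1 := by
    rcases IsSimpleGroup.eq_bot_or_eq_top_of_normal V.ker inferInstance with hk | hk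
    · exfalso
      refine hc ⟨⟨fun a b => (MonoidHom.ker_eq_bot_iff V).mp hk ?_⟩⟩
      rw [map_mul, map_mul, mul_comm]
    · exact fun g => MonoidHom.mem_ker.mp (hk ▸ mem_top g)
  have key : ∀ (k : ℕ) (g₀ : G), g₀⁻¹ * x ^ k * g₀ ∈ (P : Subgroup G) → g₀⁻¹ * x ^ k * g₀ = x ^ k := by
    intro k g₀ hg
    have hcomm : ∀ u ∈ (P : Subgroup G), u ∈ centralizer ((P : Subgroup G) : Set G) := fun u hu =>
      mem_centralizer_iff.mpr fun v hv =>
        congrArg Subtype.val (mul_comm (⟨v, hv⟩ : (P : Subgroup G)) ⟨u, hu⟩)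
    obtain ⟨n, hn, h⟩ := P.conj_eq_normalizer_conj_of_mem_centralizer (x ^ k) g₀
      (hcomm _ (pow_mem hx k)) (hcomm _ hg)
    rw [h, mul_assoc, ← ((show Commute n x from hcen n hn).pow_right k).eq, inv_mul_cancel_left]
  have hV := MonoidHom.transfer_eq_pow (MonoidHom.id (P : Subgroup G)) x key
  change V x = _ at hV
  rw [htriv x] at hV
  have hpow : x ^ (P : Subgroup G).index = 1 := (congrArg Subtype.val hV).symm
  obtain ⟨j, hj⟩ := P.isPGroup' ⟨x, hx⟩
  have hjx : x ^ p ^ j = 1 := congrArg Subtype.val hj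
  have hco : Nat.gcd (P : Subgroup G).index (p ^ j) = 1 :=
    ((Nat.Prime.coprime_iff_not_dvd Fact.out).mpr P.not_dvd_index).symm.pow_right j
  simpa [hco] using (pow_gcd_eq_one.mpr ⟨hpow, hjx⟩)

end transfer

variable {G : Type*} [Group G] [Finite G] [IsSimpleGroup G] (h : Nat.card G = 504)

include h

theorem not_comm_504 : ¬ IsMulCommutative G := not_isMulCommutative_of_not_prime (by rw [h]; norm_num)

theorem index_ne_seven {H : Subgroup G} : H.index ≠ 7 := by
  classical
  intro h7
  have hH : H ≠ ⊤ := fun e => by rw [e, index_top] at h7; norm_num at h7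
  haveI := Fintype.ofFinite (G ⧸ H)
  set f := toPermHom G (G ⧸ H)
  let ψ : G →* alternatingGroup (G ⧸ H) :=
    f.codRestrict _ fun g => Equiv.Perm.mem_alternatingGroup.mpr (sign_eq_one (not_comm_504 h) f g)
  have hψ : Function.Injective ψ := fun a b e =>
    toPermHom_quotient_injective hH (congrArg Subtype.val e)
  have hX : Nat.card (G ⧸ H) = 7 := h7
  haveI : IsSimpleGroup (alternatingGroup (G ⧸ H)) := alternatingGroup.isSimpleGroup (by omega)
  haveI : Nontrivial (G ⧸ H) := Finite.one_lt_card_iff_nontrivial.mp (by omega)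
  have hA : Nat.card (alternatingGroup (G ⧸ H)) = 2520 := by
    rw [nat_card_alternatingGroup, hX]
    rfl
  have hR := ψ.range.card_mul_index
  rw [hA, ← Nat.card_congr (MonoidHom.ofInjective hψ).toEquiv, h] at hR
  have hi : ψ.range.index = 5 := by omega
  have hne : ψ.range ≠ ⊤ := fun e => by rw [e, index_top] at hi; norm_num at hi
  have hdvd := card_dvd_factorial_index hne
  rw [hA, hi] at hdvd
  exact absurd (Nat.le_of_dvd (Nat.factorial_pos 5) hdvd) (by decide)

theorem card_le_sixty_three {H : Subgroup G} (hH : H ≠ ⊤) : Nat.card H ≤ 63 := by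
  have h1 := H.card_mul_index
  rw [h] at h1
  have h8 : 8 ≤ H.index := by
    have hd := card_dvd_factorial_index hH
    have h7 := index_ne_seven h (H := H)
    rw [h] at hd
    by_contra hlt
    have : H.index ≤ 6 := by omega
    have key : ∀ n ≤ 6, ¬ 504 ∣ n.factorial := by decide
    exact key _ this hd
  nlinarith

theorem normalizer_seven_504 (P : Sylow 7 G) :
    Nat.card (Sylow 7 G) = 36 ∧ centralizer ((P : Subgroup G) : Set G) = (P : Subgroup G) ∧
      Nat.card (normalizer ((P : Subgroup G) : Set G)) = 14 ∧ Nat.card (P : Subgroup G) = 7 := by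
  haveI : Fact (Nat.Prime 7) := ⟨by norm_num⟩
  have hc := not_comm_504 h
  have hP : Nat.card (P : Subgroup G) = 7 := by
    rw [card_sylow_subgroup_eq (k := 1) (m := 72) (by rw [h]; norm_num) (by norm_num) P, pow_one]
  have hn : Nat.card (Sylow 7 G) = 36 := by
    have hmem := card_sylow_mem_candidates (p := 7) (G := G) (k := 1) (m := 72) (by rw [h]; norm_num) (by norm_num)
    have key : ∀ n ∈ (72 : ℕ).divisors.filter (fun n => n % 7 = 1), 1 < n → n = 8 ∨ n = 36 := by decide +kernel
    refine (key _ hmem (one_lt_card_sylow hc (by rw [h]; norm_num))).resolve_left fun h8 => ?_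
    obtain ⟨D, hD⟩ := exists_setting hc P hP (by rw [h8])
    have h1 := D.card_G
    rw [hD, h] at h1
    have h2 := D.d_dvd
    rw [hD] at h2
    have := Nat.le_of_dvd (by norm_num) h2
    omega
  have hN : Nat.card (normalizer ((P : Subgroup G) : Set G)) = 14 := by
    have := card_normalizer_mul P
    rw [hn, h] at this
    omega
  refine ⟨hn, ?_, hN, hP⟩
  have hnle := not_normalizer_le_centralizer hc (by rw [h]; norm_num : 7 ∣ Nat.card G) P
  have hcyc : IsCyclic (P : Subgroup G) := isCyclic_of_prime_card hP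
  have hle : (P : Subgroup G) ≤ centralizer ((P : Subgroup G) : Set G) := fun a ha =>
    mem_centralizer_iff.mpr fun b hb => congrArg Subtype.val (hcyc.commGroup.mul_comm ⟨b, hb⟩ ⟨a, ha⟩)
  have h1 := card_dvd_of_le (centralizer_le_normalizer ((P : Subgroup G) : Set G))
  have h2 := card_dvd_of_le hle
  rw [hN] at h1
  rw [hP] at h2
  have key : ∀ n ∈ (14 : ℕ).divisors, 7 ∣ n → n = 7 ∨ n = 14 := by decide
  rcases key _ (Nat.mem_divisors.mpr ⟨h1, by norm_num⟩) h2 with e | e
  · exact (eq_of_le_of_card_ge hle (by rw [e, hP])).symm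
  · exact absurd (eq_of_le_of_card_ge (centralizer_le_normalizer _) (by rw [e, hN])).ge hnle

theorem sylow_three_504 (Q : Sylow 3 G) :
    Nat.card (Sylow 3 G) = 28 ∧ Nat.card (Q : Subgroup G) = 9 ∧
      Nat.card (normalizer ((Q : Subgroup G) : Set G)) = 18 ∧
      ∀ x ∈ (Q : Subgroup G), x ≠ 1 → centralizer ({x} : Set G) = (Q : Subgroup G) := by
  haveI : Fact (Nat.Prime 7) := ⟨by norm_num⟩
  have hc := not_comm_504 h
  have hQ : Nat.card (Q : Subgroup G) = 9 := by
    rw [card_sylow_subgroup_eq (k := 2) (m := 56) (by rw [h]; norm_num) (by norm_num) Q]; norm_num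
  have hmem := card_sylow_mem_candidates (p := 3) (G := G) (k := 2) (m := 56) (by rw [h]; norm_num) (by norm_num)
  have key : ∀ n ∈ (56 : ℕ).divisors.filter (fun n => n % 3 = 1), 1 < n → n = 4 ∨ n = 7 ∨ n = 28 := by decide +kernel
  have h1lt := one_lt_card_sylow (p := 3) hc (by rw [h]; norm_num)
  have hmul := card_normalizer_mul Q
  rw [h] at hmul
  have hne := normalizer_sylow_ne_top hc (by rw [h]; norm_num : 3 ∣ Nat.card G) Q
  have hN63 := card_le_sixty_three h hne
  have hn : Nat.card (Sylow 3 G) = 28 := by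
    rcases key _ hmem h1lt with e | e | e
    · rw [e] at hmul; omega
    · rw [e] at hmul; omega
    · exact e
  have hN : Nat.card (normalizer ((Q : Subgroup G) : Set G)) = 18 := by rw [hn] at hmul; omega
  refine ⟨hn, hQ, hN, fun x hx hx1 => ?_⟩
  haveI : IsMulCommutative (Q : Subgroup G) :=
    IsPGroup.isMulCommutative_of_card_eq_prime_sq (p := 3) (by rw [hQ]; norm_num)
  set C := centralizer ({x} : Set G) with hC
  have hQC : (Q : Subgroup G) ≤ C := fun a ha => mem_centralizer_singleton_iff.mpr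
    (congrArg Subtype.val (IsMulCommutative.is_comm.comm (⟨a, ha⟩ : (Q : Subgroup G)) ⟨x, hx⟩))
  have hCN : C ⊓ normalizer ((Q : Subgroup G) : Set G) = (Q : Subgroup G) := by
    refine (eq_of_le_of_card_ge (le_inf hQC le_normalizer) ?_).symm
    have h1 := card_dvd_of_le (inf_le_right : C ⊓ normalizer ((Q : Subgroup G) : Set G) ≤ _)
    have h2 := card_dvd_of_le (le_inf hQC le_normalizer : _ ≤ C ⊓ normalizer ((Q : Subgroup G) : Set G))
    rw [hN] at h1
    rw [hQ] at h2
    have key' : ∀ n ∈ (18 : ℕ).divisors, 9 ∣ n → n = 9 ∨ n = 18 := by decide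
    rcases key' _ (Nat.mem_divisors.mpr ⟨h1, by norm_num⟩) h2 with e | e
    · rw [e, hQ]
    · exfalso
      have e0 : C ⊓ normalizer ((Q : Subgroup G) : Set G) = normalizer ((Q : Subgroup G) : Set G) :=
        eq_of_le_of_card_ge inf_le_right (by rw [e, hN])
      have e' : normalizer ((Q : Subgroup G) : Set G) ≤ C := e0.ge.trans inf_le_left
      exact hx1 (eq_one_of_central_normalizer hc Q hx fun n hn => mem_centralizer_singleton_iff.mp (e' hn))
  have hCtop : C ≠ ⊤ := fun e => by
    rw [e, top_inf_eq] at hCN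
    rw [hCN, hQ] at hN
    norm_num at hN
  have h63 := card_le_sixty_three h hCtop
  have hdvd : Nat.card C ∣ 504 := h ▸ card_subgroup_dvd_card C
  have h9 := card_dvd_of_le hQC
  rw [hQ] at h9
  have keyC : ∀ n ∈ (504 : ℕ).divisors, 9 ∣ n → n ≤ 63 → n = 9 ∨ n = 18 ∨ n = 36 ∨ n = 63 := by decide +kernel
  have hnormal : ∀ R : Subgroup G, (Q : Subgroup G) ≤ R → R ≤ C → R ≤ normalizer ((Q : Subgroup G) : Set G) →
      Nat.card R = 9 := fun R h1 h2 h3 => by
    rw [le_antisymm ((le_inf h2 h3).trans hCN.le) h1, hQ]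
  rcases keyC _ (Nat.mem_divisors.mpr ⟨hdvd, by norm_num⟩) h9 h63 with e | e | e | e
  · exact (eq_of_le_of_card_ge hQC (by rw [e, hQ])).symm
  · exfalso
    have hi := relIndex_mul_relIndex (⊥ : Subgroup G) (Q : Subgroup G) C bot_le hQC
    rw [relIndex_bot_left, relIndex_bot_left, hQ, e] at hi
    haveI : ((Q : Subgroup G).subgroupOf C).Normal :=
      normal_of_index_eq_two (show (Q : Subgroup G).relIndex C = 2 by omega)
    have := hnormal C hQC le_rfl ((normal_subgroupOf_iff_le_normalizer hQC).mp inferInstance)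
    omega
  · exfalso
    -- the normal 3-complement of `C` is a four-group with too large a normalizer
    set Q' : Sylow 3 C := Q.subtype hQC with hQ'
    have hP : normalizer ((Q' : Subgroup C) : Set C) ≤ centralizer ((Q' : Subgroup C) : Set C) := by
      intro g hg
      rw [hQ', Sylow.coe_subtype, ← subgroupOf_normalizer_eq hQC, mem_subgroupOf] at hg
      have hgQ : (g : G) ∈ (Q : Subgroup G) := hCN.le ⟨g.2, hg⟩
      refine mem_centralizer_iff.mpr fun b hb => Subtype.ext ?_
      have hb' : (b : G) ∈ (Q : Subgroup G) := hb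
      have hbg := IsMulCommutative.is_comm.comm (⟨b, hb'⟩ : (Q : Subgroup G)) ⟨g, hgQ⟩
      exact (congrArg Subtype.val hbg :)
    have hcomp := (MonoidHom.ker_transferSylow_isComplement' Q' hP).card_mul
    rw [show Nat.card (Q' : Subgroup C) = 9 by
      rw [hQ', Sylow.coe_subtype, Nat.card_congr (subgroupOfEquivOfLe hQC).toEquiv, hQ], e] at hcomp
    set K := (MonoidHom.transferSylow Q' hP).ker
    have hKn : K.Normal := inferInstance
    set W : Subgroup G := K.map C.subtype
    have hW : Nat.card W = 4 := by rw [card_map_of_injective C.subtype_injective]; omega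
    have hCW : C ≤ normalizer (W : Set G) := fun g hg =>
      le_normalizer_map C.subtype ⟨⟨g, hg⟩, (normalizer_eq_top_iff.mpr hKn).symm ▸ mem_top _, rfl⟩
    obtain ⟨T, hT⟩ := (IsPGroup.of_card (p := 2) (n := 2) (show Nat.card W = 2 ^ 2 by rw [hW]; norm_num)).exists_le_sylow
    have hT8 : Nat.card (T : Subgroup G) = 8 := by
      rw [card_sylow_subgroup_eq (k := 3) (m := 63) (by rw [h]; norm_num) (by norm_num) T]; norm_num
    have hTW : (T : Subgroup G) ≤ normalizer (W : Set G) := by
      have hi := relIndex_mul_relIndex (⊥ : Subgroup G) W (T : Subgroup G) bot_le hT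
      rw [relIndex_bot_left, relIndex_bot_left, hW, hT8] at hi
      exact (normal_subgroupOf_iff_le_normalizer hT).mp
        (normal_of_index_eq_two (show W.relIndex (T : Subgroup G) = 2 by omega))
    have hWtop : normalizer (W : Set G) ≠ ⊤ := fun htop => by
      rcases IsSimpleGroup.eq_bot_or_eq_top_of_normal W (normalizer_eq_top_iff.mp htop) with h' | h'
      · rw [h', card_bot] at hW; omega
      · rw [h', card_top, h] at hW; omega
    have h72 : 72 ∣ Nat.card (normalizer (W : Set G)) := by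
      have a1 := card_dvd_of_le hTW
      have a2 := (card_dvd_of_le hQC).trans (card_dvd_of_le hCW)
      rw [hT8] at a1
      rw [hQ] at a2
      exact Nat.Coprime.mul_dvd_of_dvd_of_dvd (by norm_num : Nat.Coprime 8 9) a1 a2
    have := Nat.le_of_dvd Nat.card_pos h72
    have := card_le_sixty_three h hWtop
    omega
  · exfalso
    obtain ⟨R⟩ := (inferInstance : Nonempty (Sylow 7 C))
    obtain ⟨P, hP⟩ := (R.isPGroup'.map C.subtype).exists_le_sylow
    have hmem := card_sylow_mem_candidates (p := 7) (G := C) (k := 1) (m := 9) (by rw [e]; norm_num) (by norm_num)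
    have key' : ∀ n ∈ (9 : ℕ).divisors.filter (fun n => n % 7 = 1), n = 1 := by decide
    obtain ⟨-, -, hNP, hP7⟩ := normalizer_seven_504 h P
    have hPeq : (R : Subgroup C).map C.subtype = (P : Subgroup G) := eq_of_le_of_card_ge hP (by
      rw [hP7, card_map_of_injective C.subtype_injective,
        card_sylow_subgroup_eq (k := 1) (m := 9) (by rw [e]; norm_num) (by norm_num) R, pow_one])
    have hle : C ≤ normalizer ((P : Subgroup G) : Set G) := by
      rw [← hPeq]
      intro g hg
      exact le_normalizer_map C.subtype ⟨⟨g, hg⟩, (normalizer_eq_top_iff.mpr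
        (sylow_normal_of_card_eq_one (key' _ hmem) R)).symm ▸ mem_top _, rfl⟩
    have := card_le_of_le hle
    rw [e, hNP] at this
    omega

theorem centralizer_involution_504 {t : G} (ht : orderOf t = 2) :
    IsPGroup 2 (centralizer ({t} : Set G)) := by
  haveI : Fact (Nat.Prime 7) := ⟨by norm_num⟩
  set C := centralizer ({t} : Set G)
  have hd : Nat.card C ∣ 2 ^ 3 * (3 ^ 2 * 7) := by
    rw [show 2 ^ 3 * (3 ^ 2 * 7) = 504 by norm_num, ← h]; exact card_subgroup_dvd_card C
  have h3 : ¬ 3 ∣ Nat.card C := fun h3 => by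
    obtain ⟨⟨d, hdC⟩, hd3⟩ := exists_prime_orderOf_dvd_card' (G := C) 3 h3
    rw [orderOf_mk] at hd3
    obtain ⟨Q, hQ⟩ := (IsPGroup.of_card (n := 1) (show Nat.card (zpowers d) = 3 ^ 1 by
      rw [Nat.card_zpowers, hd3, pow_one])).exists_le_sylow
    obtain ⟨-, hQ9, -, hcen⟩ := sylow_three_504 h Q
    have hd1 : d ≠ 1 := fun e => by rw [e, orderOf_one] at hd3; norm_num at hd3
    have htQ : t ∈ (Q : Subgroup G) := by
      rw [← hcen d (hQ (mem_zpowers d)) hd1]
      exact mem_centralizer_singleton_iff.mpr (mem_centralizer_singleton_iff.mp hdC).symm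
    have := Subgroup.orderOf_dvd_natCard (s := (Q : Subgroup G)) htQ
    rw [ht, hQ9] at this
    norm_num at this
  have h7 : ¬ 7 ∣ Nat.card C := fun h7 => by
    obtain ⟨⟨d, hdC⟩, hd7⟩ := exists_prime_orderOf_dvd_card' (G := C) 7 h7
    rw [orderOf_mk] at hd7
    obtain ⟨P, hP⟩ := (IsPGroup.of_card (n := 1) (show Nat.card (zpowers d) = 7 ^ 1 by
      rw [Nat.card_zpowers, hd7, pow_one])).exists_le_sylow
    obtain ⟨-, hcen, -, hP7⟩ := normalizer_seven_504 h P
    have he : zpowers d = (P : Subgroup G) := eq_of_le_of_card_ge hP (by rw [hP7, Nat.card_zpowers, hd7])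
    have htP : t ∈ (P : Subgroup G) := by
      rw [← hcen, ← he, mem_centralizer_iff]
      intro y hy
      obtain ⟨j, rfl⟩ := mem_zpowers_iff.mp hy
      exact ((show Commute d t from mem_centralizer_singleton_iff.mp hdC).zpow_left j).eq
    have := Subgroup.orderOf_dvd_natCard (s := (P : Subgroup G)) htP
    rw [ht, hP7] at this
    norm_num at this
  have hco : Nat.Coprime (Nat.card C) (3 ^ 2 * 7) :=
    Nat.Coprime.mul_right ((((Nat.Prime.coprime_iff_not_dvd (by norm_num)).mpr h3).symm).pow_right 2)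
      ((Nat.Prime.coprime_iff_not_dvd (by norm_num)).mpr h7).symm
  obtain ⟨k, -, hk⟩ := (Nat.dvd_prime_pow Nat.prime_two).mp (hco.dvd_of_dvd_mul_right hd)
  exact IsPGroup.of_card hk

/-- The hypothesis of the recognition theorem for `PSL(2, 2ⁿ)`. -/
theorem hyp_504 (T : Sylow 2 G) : CfsgLib.StronglyEmbedded.AbelianCentralizer.Hyp T := by
  classical
  haveI : Fact (Nat.Prime 7) := ⟨by norm_num⟩
  have hc := not_comm_504 h
  have hT8 : Nat.card (T : Subgroup G) = 8 := by
    rw [card_sylow_subgroup_eq (k := 3) (m := 63) (by rw [h]; norm_num) (by norm_num) T]; norm_num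
  -- counting
  let A3 : Set G := {g | g ≠ 1 ∧ g ^ 9 = 1}
  let A7 : Set G := {g | g ≠ 1 ∧ g ^ 7 = 1}
  let A2 : Set G := {g | g ≠ 1 ∧ g ^ 8 = 1}
  have hA3 : 224 ≤ A3.ncard := by
    let f : (Σ Q : Sylow 3 G, {x : (Q : Subgroup G) // x ≠ 1}) → A3 := fun z => ⟨z.2.1.1,
      fun e => z.2.2 (Subtype.ext e), by
        have h9 := (sylow_three_504 h z.1).2.1
        have := pow_card_eq_one' (x := z.2.1)
        rw [h9] at this
        exact congrArg Subtype.val this⟩
    have hf : Function.Injective f := by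
      rintro ⟨Q, x, hx⟩ ⟨Q', y, hy⟩ e
      have hxy : (x : G) = y := congrArg Subtype.val e
      have hx1 : (x : G) ≠ 1 := fun e => hx (Subtype.ext e)
      obtain rfl : Q = Q' := Sylow.ext (by
        rw [← (sylow_three_504 h Q).2.2.2 _ x.2 hx1, hxy, (sylow_three_504 h Q').2.2.2 _ y.2 (hxy ▸ hx1)])
      obtain rfl : x = y := Subtype.ext hxy
      rfl
    haveI := Fintype.ofFinite (Sylow 3 G)
    haveI := Fintype.ofFinite (Sylow 7 G)
    have := Nat.card_le_card_of_injective f hf
    rw [Nat.card_sigma, Nat.card_coe_set_eq] at this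
    refine le_trans ?_ this
    rw [Finset.sum_congr rfl (g := fun _ => 8)]
    · obtain ⟨Q⟩ := (inferInstance : Nonempty (Sylow 3 G))
      rw [Finset.sum_const, Finset.card_univ, smul_eq_mul, ← Nat.card_eq_fintype_card, (sylow_three_504 h Q).1]
    · intro Q _
      haveI := Fintype.ofFinite (Q : Subgroup G)
      rw [Nat.card_eq_fintype_card, Fintype.card_subtype_compl, Fintype.card_subtype_eq,
        ← Nat.card_eq_fintype_card, (sylow_three_504 h Q).2.1]
  have hA7 : 216 ≤ A7.ncard := by
    let f : (Σ P : Sylow 7 G, {x : (P : Subgroup G) // x ≠ 1}) → A7 := fun z => ⟨z.2.1.1,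
      fun e => z.2.2 (Subtype.ext e), by
        have h7 := (normalizer_seven_504 h z.1).2.2.2
        have := pow_card_eq_one' (x := z.2.1)
        rw [h7] at this
        exact congrArg Subtype.val this⟩
    have hgen : ∀ (P : Sylow 7 G) (x : G), x ∈ (P : Subgroup G) → x ≠ 1 → zpowers x = (P : Subgroup G) := by
      intro P x hx hx1
      refine eq_of_le_of_card_ge (zpowers_le.mpr hx) ?_
      have h7 := (normalizer_seven_504 h P).2.2.2
      have hd := Subgroup.orderOf_dvd_natCard (s := (P : Subgroup G)) hx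
      rw [h7, Nat.dvd_prime (by norm_num)] at hd
      rw [h7, Nat.card_zpowers, hd.resolve_left fun e => hx1 (orderOf_eq_one_iff.mp e)]
    have hf : Function.Injective f := by
      rintro ⟨Q, x, hx⟩ ⟨Q', y, hy⟩ e
      have hxy : (x : G) = y := congrArg Subtype.val e
      have hx1 : (x : G) ≠ 1 := fun e => hx (Subtype.ext e)
      obtain rfl : Q = Q' := Sylow.ext (by rw [← hgen Q _ x.2 hx1, hxy, hgen Q' _ y.2 (hxy ▸ hx1)])
      obtain rfl : x = y := Subtype.ext hxy
      rfl
    haveI := Fintype.ofFinite (Sylow 3 G)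
    haveI := Fintype.ofFinite (Sylow 7 G)
    have := Nat.card_le_card_of_injective f hf
    rw [Nat.card_sigma, Nat.card_coe_set_eq] at this
    refine le_trans ?_ this
    rw [Finset.sum_congr rfl (g := fun _ => 6)]
    · obtain ⟨Q⟩ := (inferInstance : Nonempty (Sylow 7 G))
      rw [Finset.sum_const, Finset.card_univ, smul_eq_mul, ← Nat.card_eq_fintype_card, (normalizer_seven_504 h Q).1]
    · intro Q _
      haveI := Fintype.ofFinite (Q : Subgroup G)
      rw [Nat.card_eq_fintype_card, Fintype.card_subtype_compl, Fintype.card_subtype_eq,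
        ← Nat.card_eq_fintype_card, (normalizer_seven_504 h Q).2.2.2]
  have hdisj : ∀ (a b : ℕ), Nat.gcd a b = 1 → Disjoint {g : G | g ≠ 1 ∧ g ^ a = 1} {g : G | g ≠ 1 ∧ g ^ b = 1} := by
    intro a b hab
    rw [Set.disjoint_left]
    rintro g ⟨hg, ha⟩ ⟨-, hb⟩
    exact hg (by simpa [hab] using (pow_gcd_eq_one.mpr ⟨ha, hb⟩))
  have hA2 : A2.ncard ≤ 63 := by
    have h1 : Disjoint A2 (A3 ∪ A7) := (hdisj 8 9 (by norm_num)).union_right (hdisj 8 7 (by norm_num))
    have h2 : Disjoint A3 A7 := hdisj 9 7 (by norm_num)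
    have h3 : (A2 ∪ (A3 ∪ A7)).ncard ≤ ({1}ᶜ : Set G).ncard := by
      refine Set.ncard_le_ncard ?_
      rintro g ((⟨hg, -⟩) | (⟨hg, -⟩) | (⟨hg, -⟩)) <;> exact hg
    rw [Set.ncard_union_eq h1, Set.ncard_union_eq h2, Set.ncard_compl, Set.ncard_singleton, h] at h3
    omega
  -- a central involution of `T`
  obtain ⟨z, hzT, hz2, hzC⟩ : ∃ z ∈ (T : Subgroup G), orderOf z = 2 ∧ (T : Subgroup G) ≤ centralizer ({z} : Set G) := by
    haveI : Nontrivial (T : Subgroup G) := Finite.one_lt_card_iff_nontrivial.mp (by omega)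
    haveI := T.isPGroup'.center_nontrivial
    obtain ⟨n, hn⟩ := IsPGroup.iff_card.mp (T.isPGroup'.to_subgroup (center (T : Subgroup G)))
    have hn0 : n ≠ 0 := fun e => by
      rw [e, pow_zero] at hn
      exact absurd hn (Finite.one_lt_card.ne')
    obtain ⟨⟨⟨z, hz⟩, hzc⟩, hz2⟩ := exists_prime_orderOf_dvd_card' (G := center (T : Subgroup G)) 2
      (hn ▸ dvd_pow_self 2 hn0)
    rw [orderOf_mk, orderOf_mk] at hz2
    exact ⟨z, hz, hz2, fun g hg => mem_centralizer_singleton_iff.mpr
      (congrArg Subtype.val (mem_center_iff.mp hzc ⟨g, hg⟩))⟩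
  have hzcard : Nat.card (centralizer ({z} : Set G)) = 8 := by
    obtain ⟨T', hT'⟩ := (centralizer_involution_504 h hz2).exists_le_sylow
    have h1 := card_le_of_le hT'
    rw [card_sylow_subgroup_congr T' T, hT8] at h1
    have h2 := card_le_of_le hzC
    omega
  let K : Set G := {g | IsConj z g}
  have hK : K.ncard = 63 := by
    have h1 := (centralizer ({z} : Set G)).card_mul_index
    rw [hzcard, h] at h1
    have h2 : (stabilizer (ConjAct G) z).index = (centralizer ({z} : Set G)).index := by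
      rw [ConjAct.stabilizer_eq_centralizer]
      rfl
    rw [index_stabilizer, ConjAct.orbit_eq_carrier_conjClasses] at h2
    have h3 : (ConjClasses.mk z).carrier = K := by
      ext g
      rw [ConjClasses.mem_carrier_iff_mk_eq, ConjClasses.mk_eq_mk_iff_isConj]
      exact isConj_comm
    rw [h3] at h2
    omega
  have hK2 : K = A2 := by
    refine Set.eq_of_subset_of_ncard_le ?_ (by omega)
    rintro g hg
    obtain ⟨c, rfl⟩ := isConj_iff.mp hg
    refine ⟨fun e => ?_, ?_⟩
    · rw [conj_eq_one_iff] at e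
      rw [e, orderOf_one] at hz2
      norm_num at hz2
    · rw [conj_pow, show z ^ 8 = 1 from orderOf_dvd_iff_pow_eq_one.mp (by rw [hz2]; norm_num), mul_one, mul_inv_cancel]
  have hsq : ∀ g : G, g ^ 8 = 1 → g ^ 2 = 1 := fun g hg => by
    by_cases h1 : g = 1
    · rw [h1, one_pow]
    obtain ⟨c, rfl⟩ := isConj_iff.mp (show g ∈ K from hK2 ▸ ⟨h1, hg⟩)
    rw [conj_pow, ← hz2, pow_orderOf_eq_one, mul_one, mul_inv_cancel]
  have hTsq : ∀ g ∈ (T : Subgroup G), g ^ 2 = 1 := fun g hg => hsq g
    (orderOf_dvd_iff_pow_eq_one.mp (hT8 ▸ Subgroup.orderOf_dvd_natCard (s := (T : Subgroup G)) hg))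
  refine ⟨fun hcyc => ?_, fun hn => ?_, fun t ht => ?_⟩
  · obtain ⟨g, hg⟩ := hcyc.exists_ofOrder_eq_natCard
    rw [← orderOf_coe, hT8] at hg
    have := orderOf_dvd_of_pow_eq_one (hTsq g g.2)
    rw [hg] at this
    norm_num at this
  · rcases IsSimpleGroup.eq_bot_or_eq_top_of_normal (T : Subgroup G) hn with e | e
    · rw [e, card_bot] at hT8; omega
    · rw [e, card_top, h] at hT8; omega
  · have hC : ∀ c ∈ centralizer ({t} : Set G), c ^ 2 = 1 := by
      intro c hcc
      refine hsq c ?_
      obtain ⟨T', hT'⟩ := (centralizer_involution_504 h ht).exists_le_sylow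
      have := Subgroup.orderOf_dvd_natCard (s := (T' : Subgroup G)) (hT' hcc)
      rw [card_sylow_subgroup_congr T' T, hT8] at this
      exact orderOf_dvd_iff_pow_eq_one.mp this
    refine ⟨⟨⟨fun a b => Subtype.ext ?_⟩⟩, hC⟩
    have ha := hC _ a.2
    have hb := hC _ b.2
    have hab := hC _ (mul_mem a.2 b.2)
    rw [sq] at ha hb hab
    show (a : G) * b = b * a
    rw [← inv_eq_of_mul_eq_one_right hab, mul_inv_rev, inv_eq_of_mul_eq_one_right ha, inv_eq_of_mul_eq_one_right hb]

theorem mulEquiv_psl_504 {F : Type*} [Field F] [Fintype F] (hF : Fintype.card F = 8) :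
    Nonempty (G ≃* Matrix.ProjectiveSpecialLinearGroup (Fin 2) F) := by
  obtain ⟨T⟩ := (inferInstance : Nonempty (Sylow 2 G))
  obtain ⟨K, iK, iK', -, hK, ⟨e⟩⟩ := CfsgLib.CAGroups.nonempty_mulEquiv_psl (hyp_504 h T)
  have hT8 : Nat.card (T : Subgroup G) = 8 := by
    rw [card_sylow_subgroup_eq (k := 3) (m := 63) (by rw [h]; norm_num) (by norm_num) T]; norm_num
  obtain ⟨e'⟩ := CfsgLib.Dickson.psl_congr (FiniteField.ringEquivOfCardEq (K := K) (K' := F) (by rw [hK, hF]; exact hT8))
  exact ⟨e.trans e'⟩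

end CfsgLib.PSLSmall
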